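import Mathlib

/-!
Arithmetic of the numbers `q ^ s - (-1) ^ s` for the largest element order of `PGU_d(q)`.
-/

set_option autoImplicit false

namespace Cfsg.Agent.PGUOrder

/-- The number `q ^ s - (-1) ^ s`. -/
def tT (q s : ℕ) : ℕ := if Odd s then q ^ s + 1 else q ^ s - 1

theorem tT_pos {q s : ℕ} (hq : 2 ≤ q) (hs : 1 ≤ s) : 0 < tT q s := by
  have : q ≤ q ^ s := Nat.le_self_pow (by omega) q
  unfold tT
  split <;> omega

theorem succ_dvd_tT {q s : ℕ} (hq : 1 ≤ q) : q + 1 ∣ tT q s := by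
  unfold tT
  split
  · rename_i h
    simpa using h.nat_add_dvd_pow_add_pow q 1
  · rename_i h
    obtain ⟨k, rfl⟩ := Nat.not_odd_iff_even.1 h
    have h2 : q + 1 ∣ q ^ 2 - 1 ^ 2 := by rw [Nat.sq_sub_sq]; exact Dvd.intro _ rfl
    rw [← two_mul, pow_mul]
    rw [one_pow] at h2
    exact h2.trans (Nat.sub_one_dvd_pow_sub_one _ _)

theorem tT_le {q s : ℕ} (hs : 1 ≤ s) : tT q s * q ≤ (q + 1) * q ^ s := by
  have hqs : q ≤ q ^ s := Nat.le_self_pow (by omega) q
  unfold tT
  split
  · nlinarith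
  · calc (q ^ s - 1) * q ≤ q ^ s * q := Nat.mul_le_mul_right _ (Nat.sub_le _ _)
      _ ≤ _ := by nlinarith

theorem tT_le_succ {q s : ℕ} : tT q s ≤ q ^ s + 1 := by
  unfold tT
  split <;> omega

/-- The bound on a common multiple of the eigenvalue orders, in terms of the number of orbits. -/
theorem orbit_lcm {q : ℕ} (hq : 2 ≤ q) {ι : Type*} (I : Finset ι) (hI : I.Nonempty) (s : ι → ℕ)
    (hs : ∀ i ∈ I, 1 ≤ s i) :
    ∃ L, 0 < L ∧ (∀ i ∈ I, tT q (s i) ∣ L) ∧ L * (q + 1) ^ (I.card - 1) ≤ ∏ i ∈ I, tT q (s i) ∧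
      q + 1 ∣ L ∧ (∏ i ∈ I, tT q (s i)) * q ^ I.card ≤ (q + 1) ^ I.card * q ^ ∑ i ∈ I, s i := by
  classical
  induction hI using Finset.Nonempty.cons_induction with
  | singleton a =>
    refine ⟨tT q (s a), tT_pos hq (hs a (by simp)), fun i hi => ?_, ?_, succ_dvd_tT (by omega), ?_⟩
    · rw [Finset.mem_singleton.1 hi]
    · simp
    · simpa using tT_le (q := q) (hs a (by simp))
  | cons a J ha hJ ih =>
    obtain ⟨L, hL, hdvd, hle, hqL, hP⟩ := ih fun i hi => hs i (Finset.mem_cons_of_mem hi)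
    have hsa := hs a (Finset.mem_cons_self a J)
    set T := tT q (s a)
    have hT : 0 < T := tT_pos hq hsa
    refine ⟨Nat.lcm T L, Nat.pos_of_ne_zero (Nat.lcm_ne_zero hT.ne' hL.ne'), fun i hi => ?_, ?_,
      hqL.trans (Nat.dvd_lcm_right _ _), ?_⟩
    · rcases Finset.mem_cons.1 hi with rfl | hi
      · exact Nat.dvd_lcm_left _ _
      · exact (hdvd i hi).trans (Nat.dvd_lcm_right _ _)
    · have hgcd : q + 1 ≤ Nat.gcd T L :=
        Nat.le_of_dvd (Nat.gcd_pos_of_pos_left _ hT) (Nat.dvd_gcd (succ_dvd_tT (by omega)) hqL)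
      have h1 : Nat.lcm T L * (q + 1) ≤ T * L := by
        rw [← Nat.gcd_mul_lcm T L, mul_comm (Nat.gcd T L)]
        exact Nat.mul_le_mul_left _ hgcd
      have hc : 1 ≤ J.card := hJ.card_pos
      rw [Finset.card_cons, Finset.prod_cons, show J.card + 1 - 1 = J.card - 1 + 1 by omega, pow_succ]
      calc Nat.lcm T L * ((q + 1) ^ (J.card - 1) * (q + 1))
          = Nat.lcm T L * (q + 1) * (q + 1) ^ (J.card - 1) := by ring
        _ ≤ T * L * (q + 1) ^ (J.card - 1) := Nat.mul_le_mul_right _ h1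
        _ = T * (L * (q + 1) ^ (J.card - 1)) := by ring
        _ ≤ _ := Nat.mul_le_mul_left _ hle
    · rw [Finset.card_cons, Finset.prod_cons, Finset.sum_cons, pow_add q (s a), pow_succ, pow_succ]
      calc T * (∏ i ∈ J, tT q (s i)) * (q ^ J.card * q)
          = (T * q) * ((∏ i ∈ J, tT q (s i)) * q ^ J.card) := by ring
        _ ≤ ((q + 1) * q ^ s a) * ((q + 1) ^ J.card * q ^ ∑ i ∈ J, s i) :=
          Nat.mul_le_mul (tT_le hsa) hP
        _ = _ := by ring

/-- The bound for the semisimple part of an element of `PGU`. -/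
structure SSBound (q D L : ℕ) : Prop where
  le : L ≤ q ^ (D - 1) + 1
  le_odd : Odd D → L ≤ q ^ (D - 1)
  lt_odd : Odd D → 3 ≤ D → L + 1 ≤ q ^ (D - 1)

theorem ss_one {q s L : ℕ} (hq : 2 ≤ q) (hs : 1 ≤ s) (h : L * (q + 1) ≤ tT q s) :
    SSBound q s L := by
  have key : L ≤ q ^ (s - 1) ∧ (3 ≤ s → L + 1 ≤ q ^ (s - 1)) := by
    have h1 := h.trans (tT_le_succ (q := q) (s := s))
    obtain ⟨e, rfl⟩ : ∃ e, s = e + 1 := ⟨s - 1, by omega⟩
    rw [Nat.add_sub_cancel]
    rw [pow_succ] at h1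
    have hA : 1 ≤ q ^ e := Nat.one_le_pow _ _ (by omega)
    set A := q ^ e with hAd
    refine ⟨?_, fun h3 => ?_⟩
    · by_contra hlt
      have := Nat.mul_le_mul_right (q + 1) (show A + 1 ≤ L by omega)
      nlinarith
    · have hA2 : q * q ≤ A := by
        rw [hAd, ← pow_two]; exact Nat.pow_le_pow_right (by omega) (by omega)
      by_contra hlt
      have := Nat.mul_le_mul_right (q + 1) (show A ≤ L by omega)
      nlinarith
  exact ⟨key.1.trans (Nat.le_succ _), fun _ => key.1, fun _ => key.2⟩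

theorem ss_two {q a b L : ℕ} (hq : 2 ≤ q) (ha : 1 ≤ a) (hb : 1 ≤ b)
    (h : L * (q + 1) ≤ tT q a * tT q b) : SSBound q (a + b) L := by
  rcases Nat.even_or_odd (a + b) with he | ho
  · have h1 := h.trans (Nat.mul_le_mul tT_le_succ tT_le_succ)
    obtain ⟨e, rfl⟩ : ∃ e, a = e + 1 := ⟨a - 1, by omega⟩
    obtain ⟨g, rfl⟩ : ∃ g, b = g + 1 := ⟨b - 1, by omega⟩
    have hle : L ≤ q ^ (e + 1 + g) + 1 := by
      rw [show e + 1 + g = (e + g) + 1 by ring, pow_succ, pow_add]
      rw [pow_succ, pow_succ] at h1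
      have hA : 1 ≤ q ^ e := Nat.one_le_pow _ _ (by omega)
      have hB : 1 ≤ q ^ g := Nat.one_le_pow _ _ (by omega)
      by_contra hlt
      have := Nat.mul_le_mul_right (q + 1) (show q ^ e * q ^ g * q + 2 ≤ L by omega)
      have hAB : q ^ e + q ^ g ≤ q ^ e * q ^ g + 1 := by nlinarith
      nlinarith
    refine ⟨by rw [show e + 1 + (g + 1) - 1 = e + 1 + g by omega]; exact hle,
      fun ho => absurd ho (Nat.not_odd_iff_even.2 he), fun ho => absurd ho (Nat.not_odd_iff_even.2 he)⟩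
  · wlog hae : Even a generalizing a b with H
    · have hbe : Even b := by
        rcases Nat.even_or_odd b with h | h
        · exact h
        · exact absurd ((Nat.not_even_iff_odd.1 hae).add_odd h) (Nat.not_even_iff_odd.2 ho)
      rw [add_comm]
      exact H hb ha (by rwa [mul_comm (tT q b)]) (by rwa [add_comm]) hbe
    have h1 : L * (q + 1) ≤ (q ^ a - 1) * (q ^ b + 1) := by
      refine h.trans (Nat.mul_le_mul ?_ tT_le_succ)
      rw [tT, if_neg (Nat.not_odd_iff_even.2 hae)]
    have ha2 : 2 ≤ a := by obtain ⟨k, rfl⟩ := hae; omega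
    obtain ⟨e, rfl⟩ : ∃ e, a = e + 1 := ⟨a - 1, by omega⟩
    obtain ⟨g, rfl⟩ : ∃ g, b = g + 1 := ⟨b - 1, by omega⟩
    have hle : L + 1 ≤ q ^ (e + 1 + g) := by
      rw [show e + 1 + g = (e + g) + 1 by ring, pow_succ, pow_add]
      rw [pow_succ, pow_succ] at h1
      have hA : q ≤ q ^ e := Nat.le_self_pow (by omega) q
      have hB : 1 ≤ q ^ g := Nat.one_le_pow _ _ (by omega)
      by_contra hlt
      have := Nat.mul_le_mul_right (q + 1) (show q ^ e * q ^ g * q ≤ L by omega)
      obtain ⟨A', hA'⟩ : ∃ A', q ^ e * q = A' + 1 := ⟨q ^ e * q - 1, by have := Nat.mul_pos (show 0 < q ^ e by omega) (show 0 < q by omega); omega⟩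
      rw [hA', Nat.add_sub_cancel] at h1
      have hgA : q ^ e * q ≤ q ^ e * q ^ g * q := Nat.mul_le_mul_right _ (Nat.le_mul_of_pos_right _ (by omega))
      nlinarith
    have e1 : e + 1 + (g + 1) - 1 = e + 1 + g := by omega
    exact ⟨by rw [e1]; omega, fun _ => by rw [e1]; omega, fun _ _ => by rw [e1]; exact hle⟩

theorem ss_many {q D L k : ℕ} (hq : 2 ≤ q) (hk : 3 ≤ k) (hkD : k ≤ D)
    (h : L * q ^ k ≤ (q + 1) * q ^ D) : SSBound q D L := by
  have h1 : L * q ^ 3 ≤ (q + 1) * q ^ D :=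
    (Nat.mul_le_mul_left L (Nat.pow_le_pow_right (by omega) hk)).trans h
  obtain ⟨e, rfl⟩ : ∃ e, D = e + 1 := ⟨D - 1, by omega⟩
  have hle : L + 1 ≤ q ^ e := by
    have hA : q * q ≤ q ^ e := by rw [← pow_two]; exact Nat.pow_le_pow_right (by omega) (by omega)
    rw [pow_succ q e] at h1
    by_contra hlt
    have := Nat.mul_le_mul_right (q ^ 3) (show q ^ e ≤ L by omega)
    have h2 : q * q ≤ q + 1 := by
      refine Nat.le_of_mul_le_mul_right ?_ (show 0 < q ^ e * q from Nat.mul_pos (Nat.pow_pos (by omega)) (by omega))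
      calc q * q * (q ^ e * q) = q ^ e * q ^ 3 := by ring
        _ ≤ L * q ^ 3 := this
        _ ≤ _ := h1
    nlinarith
  refine ⟨?_, fun _ => ?_, fun _ _ => ?_⟩ <;> rw [Nat.add_sub_cancel] <;> omega

/-- The final comparison with the four maximal orders. -/
theorem bound_cases {p f q d D L c : ℕ} (hp : p.Prime) (hf : 1 ≤ f) (hq : q = p ^ f) (hd : 3 ≤ d)
    (h32 : ¬ (d = 3 ∧ q = 2)) (hD : 1 ≤ D) (hDd : D ≤ d) (hc : 1 ≤ c → D + p ^ (c - 1) ≤ d)
    (hL : SSBound q D L) :
    (Odd d → 2 ≤ f → L * p ^ c ≤ q ^ (d - 1) - 1) ∧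
    (Odd d → f = 1 → L * p ^ c ≤ (p ^ (d - 2) + 1) * p) ∧
    (Even d → 2 < q → L * p ^ c ≤ q ^ (d - 1) + 1) ∧
    (Even d → q = 2 → L * p ^ c ≤ 4 * (2 ^ (d - 3) + 1)) := by
  have hp2 := hp.two_le
  have hpq : p ≤ q := hq ▸ Nat.le_self_pow (by omega) p
  have hq2 : 2 ≤ q := hp2.trans hpq
  have hf2 : 2 ≤ f → 2 * p ≤ q := fun h => by
    rw [hq]
    calc 2 * p ≤ p * p := Nat.mul_le_mul_right _ hp2
      _ = p ^ 2 := (pow_two p).symm
      _ ≤ _ := Nat.pow_le_pow_right (by omega) h
  obtain ⟨e, rfl⟩ : ∃ e, d = e + 3 := ⟨d - 3, by omega⟩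
  rw [show e + 3 - 1 = e + 2 by omega, show e + 3 - 2 = e + 1 by omega, Nat.add_sub_cancel]
  -- the four targets, compared with `q ^ (e + 2)`
  have hX : q ^ (e + 2) = q * q * q ^ e := by ring
  have hE : 1 ≤ q ^ e := Nat.one_le_pow _ _ (by omega)
  have hpow : ∀ i j, i ≤ j → q ^ i ≤ q ^ j := fun i j h => Nat.pow_le_pow_right (by omega) h
  -- generic conclusions
  have fin1 : ∀ N, N + 1 ≤ q ^ (e + 2) →
      (Odd (e + 3) → 2 ≤ f → N ≤ q ^ (e + 2) - 1) ∧
      (Odd (e + 3) → f = 1 → N ≤ (p ^ (e + 1) + 1) * p) ∧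
      (Even (e + 3) → 2 < q → N ≤ q ^ (e + 2) + 1) ∧
      (Even (e + 3) → q = 2 → N ≤ 4 * (2 ^ e + 1)) := by
    intro N hN
    refine ⟨fun _ _ => by omega, fun _ h => ?_, fun _ _ => by omega, fun _ h => ?_⟩
    · rw [show (p ^ (e + 1) + 1) * p = p ^ (e + 2) + p by ring]
      rw [hq, h, pow_one] at hN
      omega
    · rw [hX, h] at hN
      omega
  rcases Nat.eq_zero_or_pos c with rfl | hcpos
  · rw [pow_zero, mul_one]
    rcases Nat.lt_or_ge D (e + 3) with hlt | hge
    · refine fin1 L ?_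
      have h1 := hL.le
      have h2 := hpow (D - 1) (e + 1) (by omega)
      have h3 : q ^ (e + 1) = q * q ^ e := by ring
      have h4 : 4 * q ^ e ≤ q * q * q ^ e := by gcongr; nlinarith
      have h5 : q * q * q ^ e = q * (q * q ^ e) := by ring
      have h6 : q ≤ q * q ^ e := Nat.le_mul_of_pos_right _ (by omega)
      have h7 : 2 * (q * q ^ e) ≤ q * (q * q ^ e) := Nat.mul_le_mul_right _ hq2
      omega
    · obtain rfl : D = e + 3 := by omega
      have hle := hL.le
      rw [show e + 3 - 1 = e + 2 by omega] at hle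
      refine ⟨fun ho _ => ?_, fun ho h => ?_, fun _ _ => hle, fun _ h => ?_⟩
      · have := hL.lt_odd ho (by omega)
        rw [show e + 3 - 1 = e + 2 by omega] at this
        omega
      · rw [show (p ^ (e + 1) + 1) * p = p ^ (e + 2) + p by ring]
        rw [hq, h, pow_one] at hle
        omega
      · rw [hX, h] at hle
        omega
  have hDp := hc hcpos
  rcases Nat.lt_or_ge c 2 with hc2 | hc2
  · obtain rfl : c = 1 := by omega
    simp only [Nat.sub_self, pow_zero] at hDp
    rw [pow_one]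
    have hle : L ≤ q ^ (e + 1) + 1 := hL.le.trans (by have := hpow (D - 1) (e + 1) (by omega); omega)
    by_cases hf1 : 2 ≤ f
    · refine fin1 _ ?_
      have h2p := hf2 hf1
      have h1 : 2 * (L * p) ≤ (q ^ (e + 1) + 1) * q := by
        calc 2 * (L * p) = L * (2 * p) := by ring
          _ ≤ _ := Nat.mul_le_mul hle h2p
      have h3 : (q ^ (e + 1) + 1) * q = q ^ (e + 2) + q := by ring
      have h4 : q + 2 ≤ q ^ (e + 2) := by
        have := hpow 2 (e + 2) (by omega)
        nlinarith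
      omega
    · obtain rfl : f = 1 := by omega
      rw [pow_one] at hq
      subst hq
      refine ⟨fun _ h => absurd h (by omega), fun _ _ => Nat.mul_le_mul_right _ hle, ?_, ?_⟩
      all_goals
        intro he _
        have hN : L * q ≤ q ^ (e + 2) := by
          rcases Nat.lt_or_ge D (e + 2) with hlt | hge
          · have he1 : 1 ≤ e := by obtain ⟨k, hk⟩ := he; omega
            have h1 : L ≤ q ^ e + 1 := hL.le.trans (by have := hpow (D - 1) e (by omega); omega)
            have h2 : q ≤ q ^ e := Nat.le_self_pow (by omega) q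
            calc L * q ≤ (q ^ e + 1) * q := Nat.mul_le_mul_right _ h1
              _ = q ^ e * q + q := by ring
              _ ≤ q ^ e * q + q ^ e * q := by nlinarith
              _ ≤ _ := by rw [hX]; have := Nat.mul_le_mul_right (q * q ^ e) hq2; nlinarith
          · obtain rfl : D = e + 2 := by omega
            have ho : Odd (e + 2) := by
              obtain ⟨k, hk⟩ := he; exact ⟨k - 1, by omega⟩
            have := hL.le_odd ho
            rw [show e + 2 - 1 = e + 1 by omega] at this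
            rw [pow_succ q (e + 1)]
            exact Nat.mul_le_mul_right _ this
      · omega
      · subst_vars
        rw [hX] at hN
        omega
  by_cases hspec : p = 2 ∧ c = 2
  · obtain ⟨rfl, rfl⟩ := hspec
    norm_num at hDp
    have hle : L ≤ q ^ e + 1 := hL.le.trans (by have := hpow (D - 1) e (by omega); omega)
    by_cases hq4 : q = 2
    · subst hq4
      have hf1 : f = 1 := Nat.pow_right_injective le_rfl (hq.symm.trans (pow_one 2).symm)
      have he1 : Odd (e + 3) → 2 ≤ e := fun ho => by obtain ⟨k, hk⟩ := ho; omega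
      refine ⟨fun _ h => absurd h (by omega), fun ho _ => ?_, fun _ h => absurd h (by omega),
        fun _ _ => by omega⟩
      have h22 := he1 ho
      rw [show (2 ^ (e + 1) + 1) * 2 = 4 * 2 ^ e + 2 by ring, show (2 : ℕ) ^ 2 = 4 by norm_num]
      rcases Nat.lt_or_ge D (e + 1) with hlt | hge
      · have h1 : L ≤ 2 ^ (e - 1) + 1 := hL.le.trans (by have := hpow (D - 1) (e - 1) (by omega); omega)
        have h2 : 2 ^ e = 2 * 2 ^ (e - 1) := by rw [← pow_succ']; congr 1; omega
        have h3 : 2 ≤ 2 ^ (e - 1) := Nat.le_self_pow (by omega) 2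
        omega
      · obtain rfl : D = e + 1 := by omega
        have ho' : Odd (e + 1) := by obtain ⟨k, hk⟩ := ho; exact ⟨k - 1, by omega⟩
        have := hL.lt_odd ho' (by omega)
        rw [Nat.add_sub_cancel] at this
        omega
    · refine fin1 _ ?_
      have hf' : 2 ≤ f := by
        by_contra h
        exact hq4 (by rw [hq, show f = 1 by omega, pow_one])
      have := hf2 hf'
      have hq16 : 16 * q ^ e ≤ q * q * q ^ e := by gcongr; nlinarith
      rw [hX, show (2 : ℕ) ^ 2 = 4 by norm_num]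
      omega
  · have hce : c + 1 ≤ p ^ (c - 1) := by
      obtain ⟨i, rfl⟩ : ∃ i, c = i + 1 := ⟨c - 1, by omega⟩
      rw [Nat.add_sub_cancel]
      rcases Nat.lt_or_ge p 3 with hp' | hp'
      · obtain rfl : p = 2 := by omega
        have : i ≠ 1 := fun h => hspec ⟨rfl, by omega⟩
        obtain ⟨j, rfl⟩ : ∃ j, i = j + 2 := ⟨i - 2, by omega⟩
        have := Nat.lt_two_pow_self (n := j)
        rw [pow_add]
        omega
      · refine le_trans ?_ (Nat.pow_le_pow_left hp' i)
        have hi : 1 ≤ i := by omega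
        clear hc2 hspec hc hDp hcpos
        induction i, hi using Nat.le_induction with
        | base => norm_num
        | succ j hj ih => rw [pow_succ]; omega
    set E := p ^ (c - 1)
    have hle : L ≤ q ^ (e + 2 - E) + 1 := hL.le.trans (by have := hpow (D - 1) (e + 2 - E) (by omega); omega)
    have hpc : p ^ c ≤ q ^ c := Nat.pow_le_pow_left hpq _
    have h1 : L * p ^ c ≤ q ^ (e + 1) + q ^ (e + 1) := by
      calc L * p ^ c ≤ (q ^ (e + 2 - E) + 1) * q ^ c := Nat.mul_le_mul hle hpc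
        _ = q ^ (e + 2 - E + c) + q ^ c := by rw [pow_add]; ring
        _ ≤ _ := Nat.add_le_add (hpow _ _ (by omega)) (hpow _ _ (by omega))
    have h2 : q ^ (e + 1) = q * q ^ e := by ring
    rcases Nat.lt_or_ge q 3 with hq3 | hq3
    · obtain rfl : q = 2 := by omega
      obtain rfl : p = 2 := by omega
      have hf1 : f = 1 := Nat.pow_right_injective le_rfl (hq.symm.trans (pow_one 2).symm)
      exact ⟨fun _ h => absurd h (by omega),
        fun _ _ => by rw [show (2 ^ (e + 1) + 1) * 2 = 4 * 2 ^ e + 2 by ring]; omega,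
        fun _ h => absurd h (by omega), fun _ _ => by omega⟩
    · refine fin1 _ ?_
      rw [hX]
      have : 3 * (q * q ^ e) ≤ q * (q * q ^ e) := Nat.mul_le_mul_right _ hq3
      have h5 : q * q * q ^ e = q * (q * q ^ e) := by ring
      have h6 : q ≤ q * q ^ e := Nat.le_mul_of_pos_right _ (by omega)
      omega

end Cfsg.Agent.PGUOrder
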