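import Cfsg.Agent.Lib.FormTorus.UnitaryOrders
import Cfsg.Agent.Lib.PGUOrder.Arith
import Cfsg.Prelude.Def_LieClassical

/-!
Elements of largest order in `PGU_d(q)`: a Singer cycle times a regular unipotent element.
-/

set_option autoImplicit false
set_option linter.unusedSectionVars false

namespace Cfsg.Agent.PGUOrder

open FormsLib FormTorus Matrix

universe u

variable {F : Type u} [Field F] {q : ℕ} [hQ : AutPSU.QField F q]

local notation "σ" => ((AutPSU.qb (F := F) q : F ≃+* F) : F →+* F)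

/-- An element of `SU`, seen in `GU`. -/
noncomputable def suToGU {n : ℕ} (s : ↥(Cfsg.SU n F q)) : ↥(Cfsg.GU n F q) :=
  ⟨Matrix.SpecialLinearGroup.toGL (s : Matrix.SpecialLinearGroup (Fin n) F), s.2⟩

theorem gu_scalar_of_mem_center {n : ℕ} (hn : 2 ≤ n) {z : ↥(Cfsg.GU n F q)}
    (hz : z ∈ Subgroup.center ↥(Cfsg.GU n F q)) :
    ∃ c : F, ∀ v : Fin n → F, ((z : GL (Fin n) F) : Matrix (Fin n) (Fin n) F) *ᵥ v = c • v := by
  refine AutPSU.scalar_of_fix_iso (q := q) hn _ fun x hx hxx => ?_
  obtain ⟨t, ht, hT⟩ := AutPSU.exists_isT (q := q) hxx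
  obtain ⟨w, hw⟩ := AutPSU.exists_H_eq_one (q := q) hx
  have e := congrArg (fun g : ↥(Cfsg.GU n F q) => ((g : GL (Fin n) F) : Matrix (Fin n) (Fin n) F) *ᵥ w)
    (Subgroup.mem_center_iff.1 hz (suToGU (AutPSU.tr x t hT)))
  simp only [Subgroup.coe_mul, Units.val_mul, ← Matrix.mulVec_mulVec] at e
  change AutPSU.app (AutPSU.tr x t hT) _ = _ *ᵥ (AutPSU.app (AutPSU.tr x t hT) w) at e
  rw [AutPSU.tr_apply, AutPSU.tr_apply, Matrix.mulVec_add, add_right_inj, hw] at e
  simp only [mul_one, Matrix.mulVec_smul] at e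
  refine ⟨hermForm n F q (((z : GL (Fin n) F) : Matrix (Fin n) (Fin n) F) *ᵥ w) x, ?_⟩
  refine smul_right_injective _ ht ?_
  show t • _ = t • _
  rw [smul_smul]
  exact e.symm

variable {V : Type*} [AddCommGroup V] [Module F V] [FiniteDimensional F V]

/-- An isometry gives an element of `PGU_n(q)`. -/
theorem exists_pgu {B : V →ₛₗ[σ] V →ₗ[F] F} (hB : IsFlipForm σ 1 B) {n : ℕ} (hn2 : 2 ≤ n)
    (hn : Module.finrank F V = n) (g : V ≃ₗ[F] V) (hg : Preserves B g) :
    ∃ x : ↥(Cfsg.GU n F q) ⧸ Subgroup.center ↥(Cfsg.GU n F q),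
      ∀ j : ℕ, x ^ j = 1 ↔ ∃ c : F, ∀ v, ((g : V →ₗ[F] V) ^ j) v = c • v := by
  obtain ⟨Φ, hΦ⟩ := exists_isometry_fin hB hn
  let L : (Fin n → F) →ₗ[F] (Fin n → F) := (Φ : V →ₗ[F] _) ∘ₗ (g : V →ₗ[F] V) ∘ₗ (Φ.symm : _ →ₗ[F] V)
  have hL : ∀ v, LinearMap.toMatrix' L *ᵥ v = Φ (g (Φ.symm v)) := fun v => by
    rw [LinearMap.toMatrix'_mulVec]; rfl
  have hdet' : (LinearMap.toMatrix' L).det ≠ 0 := by
    rw [LinearMap.det_toMatrix', LinearMap.det_conj]
    exact g.isUnit_det'.ne_zero
  let s : ↥(Cfsg.GU n F q) := ⟨Matrix.GeneralLinearGroup.mkOfDetNeZero _ hdet', fun a b => by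
    show hermForm n F q (LinearMap.toMatrix' L *ᵥ a) (LinearMap.toMatrix' L *ᵥ b) = hermForm n F q a b
    rw [hL, hL, ← hΦ, hg, hΦ, Φ.apply_symm_apply, Φ.apply_symm_apply]⟩
  have happ : ∀ (j : ℕ) v, (((s ^ j : ↥(Cfsg.GU n F q)) : GL (Fin n) F) : Matrix (Fin n) (Fin n) F) *ᵥ v =
      Φ (((g : V →ₗ[F] V) ^ j) (Φ.symm v)) := by
    intro j
    induction j with
    | zero => intro v; simp
    | succ j ih =>
      intro v
      rw [pow_succ, Subgroup.coe_mul, Units.val_mul, ← Matrix.mulVec_mulVec, ih, pow_succ]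
      show Φ (((g : V →ₗ[F] V) ^ j) (Φ.symm (LinearMap.toMatrix' L *ᵥ v))) = _
      rw [hL, Φ.symm_apply_apply]
      rfl
  refine ⟨QuotientGroup.mk s, fun j => ?_⟩
  rw [← QuotientGroup.mk_pow, QuotientGroup.eq_one_iff]
  constructor
  · intro h
    obtain ⟨c, hc⟩ := gu_scalar_of_mem_center hn2 h
    refine ⟨c, fun v => Φ.injective ?_⟩
    have := hc (Φ v)
    rw [happ, Φ.symm_apply_apply] at this
    rw [this, map_smul]
  · rintro ⟨c, hc⟩
    refine Subgroup.mem_center_iff.2 fun h => Subtype.ext (Units.ext (Matrix.ext_iff_mulVec.2 fun v => ?_))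
    simp only [Subgroup.coe_mul, Units.val_mul, ← Matrix.mulVec_mulVec, happ, hc, map_smul, Φ.apply_symm_apply,
      Matrix.mulVec_smul]

variable [Fintype F] (p a : ℕ) [hp : Fact p.Prime] [CharP F p]

/-- A semisimple cyclic isometry and a regular unipotent one. -/
theorem exists_join {B : V →ₛₗ[σ] V →ₗ[F] F} (hB : IsFlipForm σ 1 B) (g : V ≃ₗ[F] V)
    (hg : Preserves B g) {N : ℕ} (hN : ∀ j : ℕ, (∀ v, ((g : V →ₗ[F] V) ^ j) v = v) ↔ N ∣ j)
    (hNp : N.Coprime p) {k m : ℕ} (hk : Module.finrank F V = k) (hm : 1 ≤ m) (hn : 2 ≤ k + m) :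
    ∃ x : ↥(Cfsg.GU (k + m) F q) ⧸ Subgroup.center ↥(Cfsg.GU (k + m) F q),
      orderOf x = N * p ^ Nat.clog p m := by
  haveI := (finrank_UR (F := F) m).1
  obtain ⟨B', g', hB', hg', hgv⟩ := exists_unipotent_model (F := F) (m := m) hm
    (sigma_sigma (F := F) (q := q)) (show (1 : F) * σ 1 = 1 by simp) (exists_sign (F := F) (q := q) (m - 1))
  haveI : Nontrivial (UR F m) := Module.nontrivial_of_finrank_pos (R := F) (by
    rw [(finrank_UR (F := F) m).2]; omega)
  set t := AdjoinRoot.root ((Polynomial.X - 1 : Polynomial F) ^ m) with ht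
  have hdim : Module.finrank F (V × UR F m) = k + m := by
    rw [Module.finrank_prod, hk, (finrank_UR (F := F) m).2]
  obtain ⟨x, hx⟩ := exists_pgu (prodB_isFlip hB hB') hn hdim (g.prodCongr g')
    (preserves_prodCongr hg hg')
  have hpw : ∀ (j : ℕ) v, ((g.prodCongr g' : (V × UR F m) →ₗ[F] (V × UR F m)) ^ j) v =
      (((g : V →ₗ[F] V) ^ j) v.1, t ^ j * v.2) := by
    intro j
    induction j with
    | zero => intro v; simp
    | succ j ih =>
      intro v
      rw [pow_succ, Module.End.mul_apply, ih, pow_succ, pow_succ, Module.End.mul_apply, mul_assoc]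
      exact congrArg (fun w => (((g : V →ₗ[F] V) ^ j) (g v.1), t ^ j * w)) (hgv v.2)
  set P := Nat.clog p m
  have hP : t ^ p ^ P = 1 := (root_pow_eq_one_iff m _).2 (Nat.le_pow_clog hp.out.one_lt m)
  refine ⟨x, Nat.dvd_antisymm ?_ ?_⟩
  · refine orderOf_dvd_of_pow_eq_one ((hx _).2 ⟨1, fun v => ?_⟩)
    rw [hpw, one_smul]
    refine Prod.ext ((hN _).2 (Dvd.intro _ rfl) v.1) ?_
    show t ^ (N * p ^ P) * v.2 = v.2
    rw [mul_comm N, pow_mul, hP, one_pow, one_mul]
  · obtain ⟨c, hc⟩ := (hx _).1 (pow_orderOf_eq_one x)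
    set o := orderOf x
    have hc1 := congrArg Prod.snd (hc (0, 1))
    rw [hpw] at hc1
    simp only [mul_one, Prod.smul_snd, Algebra.smul_def] at hc1
    have hc' : c = 1 := by
      refine AutPSU.eq_one_of_pow_eq_one (q := q) p (k := P) ((algebraMap F (UR F m)).injective ?_)
      rw [map_pow, ← hc1, map_one, ← pow_mul, mul_comm, pow_mul, hP, one_pow]
    rw [hc', map_one] at hc1
    refine Nat.Coprime.mul_dvd_of_dvd_of_dvd (hNp.pow_right _) ((hN _).1 fun v => ?_) ?_
    · have := congrArg Prod.fst (hc (v, 0))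
      rwa [hpw, hc', one_smul] at this
    · rcases Nat.eq_zero_or_pos P with h0 | h0
      · rw [h0, pow_zero]; exact one_dvd _
      have hd : orderOf t = p ^ P := by
        obtain ⟨e, he⟩ : ∃ e, P = e + 1 := ⟨P - 1, by omega⟩
        rw [he]
        refine orderOf_eq_prime_pow (fun h => ?_) (he ▸ hP)
        have h1 := (root_pow_eq_one_iff m e).1 h
        have := Nat.pow_lt_of_lt_clog (b := p) (x := m) (y := e) (by omega)
        omega
      rw [← hd]
      exact orderOf_dvd_of_pow_eq_one hc1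

/-- An element of order `T(k) * p ^ clog p m`. -/
theorem exists_element (hq : q = p ^ a) (ha : 1 ≤ a) {k m : ℕ} (hk : 1 ≤ k) (hm : 1 ≤ m) :
    ∃ x : ↥(Cfsg.GU (k + m) F q) ⧸ Subgroup.center ↥(Cfsg.GU (k + m) F q),
      orderOf x = tT q k * p ^ Nat.clog p m := by
  have hF : Nat.card F = q ^ 2 := hQ.card
  have hq2 : 2 ≤ q := hQ.two_le
  set s0 : F →+* F := ((AutPSU.qb (F := F) q : F ≃+* F) : F →+* F) with hs0
  have hs : ∀ c, s0 c = c ^ q := fun c => AutPSU.qb_apply c
  have hss : ∀ c, s0 (s0 c) = c := fun c => AutPSU.qb_qb c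
  have hqk : q ∣ q ^ k := dvd_pow_self q (by omega)
  have hpk : p ∣ q ^ k := (hq ▸ dvd_pow_self p (by omega : a ≠ 0) : p ∣ q).trans hqk
  have hTp : (tT q k).Coprime p := by
    refine (hp.out.coprime_iff_not_dvd.2 fun h => ?_).symm
    have h1 : 1 ≤ q ^ k := Nat.one_le_pow _ _ (by omega)
    refine hp.out.ne_one (Nat.dvd_one.1 ?_)
    unfold tT at h
    split at h
    · exact (Nat.dvd_add_right hpk).1 h
    · have := Nat.dvd_sub hpk h
      rwa [Nat.sub_sub_self h1] at this
  rcases Nat.even_or_odd k with he | ho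
  · obtain ⟨i, rfl⟩ := he
    haveI : NeZero i := ⟨by omega⟩
    set K := FiniteField.Extension F p i
    have hK : Nat.card K = (q ^ 2) ^ i := by rw [FiniteField.natCard_extension, hF]
    have hfr : Module.finrank F K = i := FiniteField.finrank_extension F p i
    haveI : Finite K := Nat.finite_of_card_ne_zero (by rw [hK]; positivity)
    haveI : Module.Finite F K := Module.Finite.of_finite
    haveI : CharP K p := charP_of_injective_algebraMap (algebraMap F K).injective p
    haveI : ExpChar K p := ExpChar.prime hp.out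
    let τ : K →+* K := iterateFrobenius K p a
    have hτ : ∀ z, τ z = z ^ q := fun z => by rw [hq, iterateFrobenius_def]
    have hτc : ∀ c, τ (algebraMap F K c) = algebraMap F K (s0 c) := fun c => by rw [hτ, hs, map_pow]
    obtain ⟨y, hy⟩ := IsCyclic.exists_generator (α := Kˣ)
    have hyo : orderOf y = tT q (i + i) := by
      rw [orderOf_eq_card_of_forall_mem_zpowers hy, Nat.card_units, hK, tT,
        if_neg (Nat.not_odd_iff_even.2 ⟨i, rfl⟩), ← pow_mul, two_mul]
    let w : Kˣ := (y ^ q)⁻¹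
    have hyw : τ (y : K) * (w : K) = 1 := by rw [hτ, ← Units.val_pow_eq_pow_val, Units.mul_inv]
    let g : (K × K) ≃ₗ[F] (K × K) :=
      (LinearEquiv.smulOfUnit y).restrictScalars F |>.prodCongr ((LinearEquiv.smulOfUnit w).restrictScalars F)
    have hgap : ∀ v : K × K, g v = ((y : K) * v.1, (w : K) * v.2) := fun v => rfl
    have hpow : ∀ (j : ℕ) (v : K × K),
        ((g : (K × K) →ₗ[F] (K × K)) ^ j) v = ((y : K) ^ j * v.1, (w : K) ^ j * v.2) := by
      intro j
      induction j with
      | zero => intro v; simp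
      | succ j ih =>
        intro v
        rw [pow_succ, Module.End.mul_apply, ih]
        show ((y : K) ^ j * (g v).1, (w : K) ^ j * (g v).2) = _
        rw [hgap, pow_succ, pow_succ, mul_assoc, mul_assoc]
    refine exists_join p (pairB_isFlip s0 (1 : F) τ hτc hss (by simp)) g (fun u v => by
      rw [hgap, hgap]; exact pairB_mul s0 1 τ hτc hss _ _ hyw u v) (N := tT q (i + i)) (fun j => ?_) hTp
      (by rw [Module.finrank_prod, hfr]) hm (by omega)
    rw [← hyo, orderOf_dvd_iff_pow_eq_one]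
    constructor
    · intro h
      have := congrArg Prod.fst (h (1, 0))
      rw [hpow] at this
      exact Units.ext (by simpa using this)
    · intro h v
      have hw : w ^ j = 1 := by simp only [w]; rw [inv_pow, pow_right_comm, h, one_pow, inv_one]
      rw [hpow, ← Units.val_pow_eq_pow_val, ← Units.val_pow_eq_pow_val, h, hw, Units.val_one, one_mul, one_mul]
  · haveI : NeZero k := ⟨by omega⟩
    set K := FiniteField.Extension F p k
    have hK : Nat.card K = (q ^ 2) ^ k := by rw [FiniteField.natCard_extension, hF]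
    have hfr : Module.finrank F K = k := FiniteField.finrank_extension F p k
    haveI : Finite K := Nat.finite_of_card_ne_zero (by rw [hK]; positivity)
    haveI : Module.Finite F K := Module.Finite.of_finite
    haveI : Fintype K := Fintype.ofFinite K
    haveI : CharP K p := charP_of_injective_algebraMap (algebraMap F K).injective p
    haveI : ExpChar K p := ExpChar.prime hp.out
    let τ : K →+* K := iterateFrobenius K p (a * k)
    have hτ : ∀ z, τ z = z ^ q ^ k := fun z => by rw [hq, ← pow_mul, iterateFrobenius_def]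
    have hodd : ∀ c : F, c ^ q ^ k = c ^ q := by
      obtain ⟨e, rfl⟩ := ho
      intro c
      rw [pow_succ, pow_mul, pow_mul, ← hF, Nat.card_eq_fintype_card, FiniteField.pow_card_pow]
    have hτc : ∀ c, τ (algebraMap F K c) = algebraMap F K (s0 c) := fun c => by rw [hτ, ← map_pow, hodd, hs]
    have hττ : ∀ z, τ (τ z) = z := fun z => by
      rw [hτ, hτ, ← pow_mul, ← pow_two, ← pow_mul, mul_comm k 2, pow_mul, ← hK,
        Nat.card_eq_fintype_card, FiniteField.pow_card]
    have htr : ∀ z, Algebra.trace F K (τ z) = s0 (Algebra.trace F K z) := fun z => by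
      refine (algebraMap F K).injective ?_
      rw [← hτc, FiniteField.algebraMap_trace_eq_sum_pow, FiniteField.algebraMap_trace_eq_sum_pow, map_sum]
      simp only [map_pow]
    obtain ⟨g0, hg0⟩ := IsCyclic.exists_generator (α := Kˣ)
    have hqn : 1 < q ^ k := Nat.one_lt_pow (by omega) (by omega)
    set y : Kˣ := g0 ^ (q ^ k - 1) with hy
    have hyo : orderOf y = q ^ k + 1 := by
      have hord : orderOf g0 = (q ^ k - 1) * (q ^ k + 1) := by
        rw [orderOf_eq_card_of_forall_mem_zpowers hg0, Nat.card_units, hK, mul_comm,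
          ← Nat.sq_sub_sq, one_pow, ← pow_mul, ← pow_mul, mul_comm k 2]
      rw [hy, orderOf_pow' g0 (by omega), hord, Nat.gcd_eq_right (Dvd.intro _ rfl),
        Nat.mul_div_cancel_left _ (by omega)]
    have hyy : τ (y : K) * (y : K) = 1 := by
      rw [hτ, ← pow_succ, ← Units.val_pow_eq_pow_val, orderOf_dvd_iff_pow_eq_one.1 (hyo ▸ dvd_refl _),
        Units.val_one]
    let g : K ≃ₗ[F] K := (LinearEquiv.smulOfUnit y).restrictScalars F
    have hgap : ∀ v : K, g v = (y : K) * v := fun v => rfl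
    have hpow : ∀ (j : ℕ) (v : K), ((g : K →ₗ[F] K) ^ j) v = (y : K) ^ j * v := by
      intro j
      induction j with
      | zero => intro v; simp
      | succ j ih =>
        intro v
        rw [pow_succ, Module.End.mul_apply, ih]
        show (y : K) ^ j * g v = _
        rw [hgap, pow_succ, mul_assoc]
    refine exists_join p (fieldB_isFlip s0 (1 : F) τ hτc htr hττ 1 (by simp) one_ne_zero) g (fun u v => by
      rw [hgap, hgap]; exact fieldB_mul s0 τ hτc 1 _ hyy u v) (N := tT q k) (fun j => ?_) hTp hfr hm (by omega)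
    rw [tT, if_pos ho, ← hyo, orderOf_dvd_iff_pow_eq_one]
    constructor
    · intro h
      have := h 1
      rw [hpow, mul_one] at this
      exact Units.ext (by simpa using this)
    · intro h v
      rw [hpow, ← Units.val_pow_eq_pow_val, h, Units.val_one, one_mul]

end Cfsg.Agent.PGUOrder
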