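import Cfsg.Agent.Lib.AutPSL.MaxOrder.RootsBound
import Cfsg.Agent.Lib.FormTorus.UnitaryOrders
import Cfsg.Agent.Lib.PGUOrder.Arith
import Cfsg.Prelude.Def_LieClassical

/-!
Upper bound for element orders in `PGU_d(q)`: the orbits of the eigenvalues under `x ↦ x ^ (-q)`.
-/

set_option autoImplicit false
set_option linter.unusedSectionVars false

namespace Cfsg.Agent.PGUOrder

open Matrix Polynomial AutPSL.MaxOrder
open scoped Classical

variable {n : ℕ} {F : Type*} [Field F] [Fintype F] (p a : ℕ) [hp : Fact p.Prime] [CharP F p]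
  {r : ℕ}

local notation "Mat" => Matrix (Fin n) (Fin n) F
local notation "E" => AlgebraicClosure F

/-- The orbit data, recording the conjugates of each eigenvalue. -/
theorem orbit_data (hr : r = p ^ a) (A : GL (Fin n) F) (σ : F →+* F) (hσ : ∀ x, σ x = x ^ r)
    (h : (((A⁻¹ : GL (Fin n) F) : Mat).map σ).charpoly = (A : Mat).charpoly) :
    ∃ orb : E → Finset E, ∀ x ∈ (eig (A : Mat)).toFinset,
      x ∈ orb x ∧ orb x ⊆ (eig (A : Mat)).toFinset ∧
      (∀ y ∈ orb x, orb y = orb x ∧ (eig (A : Mat)).count y = (eig (A : Mat)).count x ∧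
        ∃ i : ℕ, y = x ^ ((-(r : ℤ)) ^ i)) ∧
      ∃ s, 1 ≤ s ∧ s ≤ (orb x).card ∧ x ^ tT r s = 1 := by
  haveI : CharP E p := charP_of_injective_algebraMap (algebraMap F E).injective p
  haveI : ExpChar E p := ExpChar.prime hp.out
  set M := eig (A : Mat)
  set τ : E → E := fun x => x ^ (-(r : ℤ))
  have hinv : M.map τ = M := unitary_invariant p a hr A σ hσ h
  have hτi : Function.Injective τ := by
    intro a' b e
    simp only [τ, _root_.zpow_neg, _root_.zpow_natCast, _root_.inv_inj, hr, ← iterateFrobenius_def] at e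
    exact (iterateFrobenius E p a).injective e
  have hcτ : ∀ x i, M.count (τ^[i] x) = M.count x := fun x i => by
    induction i with
    | zero => rfl
    | succ i ih =>
      rw [Function.iterate_succ_apply', ← ih]
      conv_lhs => rw [← hinv]
      exact Multiset.count_map_eq_count' _ _ hτi _
  have hit : ∀ x i, τ^[i] x = x ^ ((-(r : ℤ)) ^ i) := fun x i => by
    induction i with
    | zero => simp
    | succ i ih => rw [Function.iterate_succ_apply', ih, pow_succ, _root_.zpow_mul]
  set R := M.toFinset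
  have hmem : ∀ x ∈ R, ∀ i, τ^[i] x ∈ R := fun x hx i => by
    simp only [R, Multiset.mem_toFinset] at hx ⊢
    exact Multiset.count_pos.1 (by rw [hcτ]; exact Multiset.count_pos.2 hx)
  have hper : ∀ x ∈ R, x ∈ Function.periodicPts τ := fun x hx => by
    obtain ⟨i, k, hne, e⟩ := Finite.exists_ne_map_eq_of_infinite fun i : ℕ => (⟨τ^[i] x, hmem x hx i⟩ : R)
    have e' : τ^[i] x = τ^[k] x := congrArg Subtype.val e
    wlog hik : i < k generalizing i k
    · exact this k i hne.symm e.symm e'.symm (by omega)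
    refine Function.mk_mem_periodicPts (show 0 < k - i by omega) ?_
    refine hτi.iterate i ?_
    rw [← Function.iterate_add_apply, Nat.add_sub_cancel' hik.le, e']
  refine ⟨fun x => R.filter fun y => ∃ i, τ^[i] x = y, fun x hx => ⟨?_, Finset.filter_subset _ _, ?_, ?_⟩⟩
  · exact Finset.mem_filter.2 ⟨hx, 0, rfl⟩
  · intro y hy
    obtain ⟨-, i, rfl⟩ := Finset.mem_filter.1 hy
    refine ⟨Finset.filter_congr fun z _ => ⟨?_, ?_⟩, hcτ x i, i, hit x i⟩
    · rintro ⟨k, rfl⟩
      exact ⟨k + i, Function.iterate_add_apply _ _ _ _⟩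
    · rintro ⟨k, rfl⟩
      set s := Function.minimalPeriod τ x
      have hs : 0 < s := Function.minimalPeriod_pos_of_mem_periodicPts (hper x hx)
      have hle : i ≤ s * i + k := (Nat.le_mul_of_pos_left i hs).trans (Nat.le_add_right _ _)
      refine ⟨s * i + k - i, ?_⟩
      rw [← Function.iterate_add_apply, Nat.sub_add_cancel hle, add_comm, Function.iterate_add_apply]
      congr 1
      exact ((Function.isPeriodicPt_minimalPeriod τ x).mul_const i).eq
  · set s := Function.minimalPeriod τ x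
    have hs : 0 < s := Function.minimalPeriod_pos_of_mem_periodicPts (hper x hx)
    refine ⟨s, hs, ?_, ?_⟩
    · rw [← Finset.card_range s]
      refine Finset.card_le_card_of_injOn (fun i => τ^[i] x) (fun i _ => ?_) ?_
      · exact Finset.mem_filter.2 ⟨hmem x hx i, i, rfl⟩
      · intro b hb c hc e
        exact Function.iterate_injOn_Iio_minimalPeriod (Finset.mem_range.1 hb) (Finset.mem_range.1 hc) e
    · have hx0 : x ≠ 0 := fun e => zero_notMem_eig A (e ▸ Multiset.mem_toFinset.1 hx)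
      have hfix : x ^ ((-(r : ℤ)) ^ s) = x := by rw [← hit]; exact Function.iterate_minimalPeriod
      have h1 : x ^ ((-(r : ℤ)) ^ s - 1) = 1 := by
        rw [_root_.zpow_sub₀ hx0, hfix, _root_.zpow_one, div_self hx0]
      have hrs : 1 ≤ r ^ s := Nat.one_le_pow _ _ (hr ▸ pow_pos hp.out.pos _)
      rw [tT]
      by_cases ho : Odd s
      · rw [if_pos ho, ← _root_.zpow_natCast, Nat.cast_add, Nat.cast_pow, Nat.cast_one,
          show ((r : ℤ) ^ s + 1) = -((-(r : ℤ)) ^ s - 1) by rw [ho.neg_pow]; ring, _root_.zpow_neg, h1, inv_one]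
      · rw [if_neg ho, ← _root_.zpow_natCast, Nat.cast_sub hrs, Nat.cast_pow, Nat.cast_one,
          ← (Nat.not_odd_iff_even.1 ho).neg_pow, h1]

theorem pow_neg_eq {K : Type*} [Field K] {c : K} {r : ℕ} (hc : c ^ (r + 1) = 1) :
    ∀ i : ℕ, c ^ ((-(r : ℤ)) ^ i) = c := by
  have h1 : c ^ (-(r : ℤ)) = c := by
    rw [_root_.zpow_neg, _root_.zpow_natCast]
    exact inv_eq_of_mul_eq_one_left (by rw [← pow_succ', hc])
  intro i
  induction i with
  | zero => simp
  | succ i ih => rw [pow_succ, _root_.zpow_mul, ih, h1]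

/-- An exponent of `A` modulo scalars. -/
theorem exponent_bound (hn : 1 ≤ n) (ha : 1 ≤ a) (hr : r = p ^ a) (hF : Fintype.card F = r ^ 2)
    (A : GL (Fin n) F) (σ : F →+* F) (hσ : ∀ x, σ x = x ^ r)
    (h : (((A⁻¹ : GL (Fin n) F) : Mat).map σ).charpoly = (A : Mat).charpoly) :
    ∃ (L D c : ℕ) (f : F), 0 < L ∧ 1 ≤ D ∧ D ≤ n ∧ (1 ≤ c → D + p ^ (c - 1) ≤ n) ∧ SSBound r D L ∧
      (A : Mat) ^ (L * p ^ c) = f • (1 : Mat) := by
  haveI : CharP E p := charP_of_injective_algebraMap (algebraMap F E).injective p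
  have hr2 : 2 ≤ r := hr ▸ le_trans hp.out.two_le (Nat.le_self_pow (by omega) p)
  obtain ⟨orb, horb⟩ := orbit_data p a hr A σ hσ h
  set M := eig (A : Mat)
  set R := M.toFinset
  choose hself hsub hy s hs1 hs2 hsx using horb
  set Os := R.image orb
  have hrep : ∀ O ∈ Os, ∃ x ∈ R, orb x = O := fun O hO => Finset.mem_image.1 hO
  choose! rep hrepR hrepO using hrep
  let sd : Finset E → ℕ := fun O => if hx : rep O ∈ R then s (rep O) hx else 0
  have hsd : ∀ O ∈ Os, 1 ≤ sd O ∧ sd O ≤ O.card ∧ rep O ^ tT r (sd O) = 1 := fun O hO => by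
    simp only [sd, dif_pos (hrepR O hO)]
    refine ⟨hs1 _ _, le_of_le_of_eq (hs2 _ _) (by rw [hrepO O hO]), hsx _ _⟩
  set D := ∑ O ∈ Os, sd O
  have hpos : R.Nonempty := by
    obtain ⟨x, hx⟩ := Multiset.card_pos_iff_exists_mem.1 (show 0 < M.card by rw [card_eig]; omega)
    exact ⟨x, Multiset.mem_toFinset.2 hx⟩
  have hOs : Os.Nonempty := hpos.image _
  have hkD : Os.card ≤ D := by
    rw [Finset.card_eq_sum_ones]; exact Finset.sum_le_sum fun O hO => (hsd O hO).1
  have hin : ∀ x ∈ R, x ∈ orb (rep (orb x)) := fun x hx => by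
    rw [hrepO _ (Finset.mem_image_of_mem orb hx)]; exact hself x hx
  have hroot : ∀ x ∈ R, ∀ (L : ℕ) (c : E), rep (orb x) ^ L = c → c ^ (r + 1) = 1 → x ^ L = c := by
    intro x hx L c hL hc
    obtain ⟨i, hi⟩ := (hy _ (hrepR _ (Finset.mem_image_of_mem orb hx)) x (hin x hx)).2.2
    rw [hi, ← _root_.zpow_natCast, ← _root_.zpow_mul, mul_comm, _root_.zpow_mul, _root_.zpow_natCast, hL,
      pow_neg_eq hc]
  -- multiplicities
  have hmult : ∀ x ∈ R, D + (M.count x - 1) ≤ n := fun x hx => by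
    have hO : orb x ∈ Os := Finset.mem_image_of_mem orb hx
    have e1 : M.count x = M.count (rep (orb x)) := (hy _ (hrepR _ hO) x (hin x hx)).2.1
    have e2 : ∑ O ∈ Os, sd O * M.count (rep O) ≤ n := by
      rw [← card_eig (A : Mat), ← Multiset.toFinset_sum_count_eq,
        ← Finset.sum_fiberwise_of_maps_to (t := Os) (g := orb) fun y hy' => Finset.mem_image_of_mem orb hy']
      refine Finset.sum_le_sum fun O hO => ?_
      calc sd O * M.count (rep O) ≤ O.card * M.count (rep O) := Nat.mul_le_mul_right _ (hsd O hO).2.1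
        _ = ∑ y ∈ O, M.count y := by
            rw [Finset.sum_const_nat fun y hy' => (hy _ (hrepR O hO) y (by rwa [hrepO O hO])).2.1]
        _ ≤ _ := Finset.sum_le_sum_of_subset fun y hy' => Finset.mem_filter.2
            ⟨hsub _ (hrepR O hO) (by rwa [hrepO O hO]),
              ((hy _ (hrepR O hO) y (by rwa [hrepO O hO])).1).trans (hrepO O hO)⟩
    have e3 : ∀ O ∈ Os, sd O + sd O * (M.count (rep O) - 1) = sd O * M.count (rep O) := fun O hO => by
      have : 1 ≤ M.count (rep O) :=
        Multiset.one_le_count_iff_mem.2 (Multiset.mem_toFinset.1 (hrepR O hO))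
      obtain ⟨k, hk⟩ : ∃ k, M.count (rep O) = k + 1 := ⟨_, (Nat.sub_add_cancel this).symm⟩
      rw [hk, Nat.add_sub_cancel]; ring
    rw [← Finset.sum_congr rfl e3, Finset.sum_add_distrib] at e2
    refine le_trans (Nat.add_le_add_left ?_ _) e2
    rw [e1]
    exact le_trans (Nat.le_mul_of_pos_left _ (hsd _ hO).1)
      (Finset.single_le_sum (f := fun O => sd O * (M.count (rep O) - 1)) (fun _ _ => Nat.zero_le _) hO)
  obtain ⟨x₁, hx₁, hmax⟩ := R.exists_max_image (fun x => M.count x) hpos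
  set m := M.count x₁
  have hm := hmult x₁ hx₁
  -- the semisimple exponent
  obtain ⟨T, hT, hTdvd, hTle, hqT, hTP⟩ := orbit_lcm hr2 Os hOs sd fun O hO => (hsd O hO).1
  obtain ⟨L, e, hL, hSS, he, hLroot⟩ :
      ∃ (L : ℕ) (e : E), 0 < L ∧ SSBound r D L ∧ e ^ (r + 1) = 1 ∧ ∀ x ∈ R, x ^ L = e := by
    rcases Nat.lt_or_ge Os.card 2 with hk1 | hk2
    · obtain ⟨O, hO⟩ := Finset.card_eq_one.1 (show Os.card = 1 by have := hOs.card_pos; omega)
      have hOm : O ∈ Os := by rw [hO]; exact Finset.mem_singleton_self _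
      have hDs : D = sd O := by simp [D, hO]
      obtain ⟨L, hL⟩ := succ_dvd_tT (q := r) (s := sd O) (by omega)
      have h0 := tT_pos hr2 (hsd O hOm).1
      refine ⟨L, rep O ^ L, ?_, hDs ▸ ss_one hr2 (hsd O hOm).1 (by rw [mul_comm, ← hL]), ?_, fun x hx => ?_⟩
      · rw [hL] at h0; exact Nat.pos_of_mul_pos_left h0
      · rw [← pow_mul, mul_comm, ← hL, (hsd O hOm).2.2]
      · have hOx : orb x = O := Finset.mem_singleton.1 (hO ▸ Finset.mem_image_of_mem orb hx)
        exact hroot x hx L _ (by rw [hOx]) (by rw [← pow_mul, mul_comm, ← hL, (hsd O hOm).2.2])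
    · refine ⟨T, 1, hT, ?_, one_pow _, fun x hx => hroot x hx T 1 ?_ (one_pow _)⟩
      · rcases Nat.lt_or_ge Os.card 3 with hk3 | hk3
        · obtain ⟨O₁, O₂, hne, hO⟩ := Finset.card_eq_two.1 (show Os.card = 2 by omega)
          have h1 : O₁ ∈ Os := by rw [hO]; simp
          have h2 : O₂ ∈ Os := by rw [hO]; simp
          rw [show Os.card = 2 by omega, hO, Finset.prod_pair hne] at hTle
          have : D = sd O₁ + sd O₂ := by simp [D, hO, Finset.sum_pair hne]
          rw [this]
          exact ss_two hr2 (hsd _ h1).1 (hsd _ h2).1 (by simpa using hTle)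
        · refine ss_many (k := Os.card) hr2 hk3 hkD ?_
          refine Nat.le_of_mul_le_mul_right (c := (r + 1) ^ (Os.card - 1)) ?_ (by positivity)
          calc T * r ^ Os.card * (r + 1) ^ (Os.card - 1)
              = (T * (r + 1) ^ (Os.card - 1)) * r ^ Os.card := by ring
            _ ≤ (∏ O ∈ Os, tT r (sd O)) * r ^ Os.card := Nat.mul_le_mul_right _ hTle
            _ ≤ (r + 1) ^ Os.card * r ^ D := hTP
            _ = _ := by
                rw [show Os.card = Os.card - 1 + 1 by omega, pow_succ, Nat.add_sub_cancel]; ring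
      · have hO : orb x ∈ Os := Finset.mem_image_of_mem orb hx
        obtain ⟨k, hk⟩ := hTdvd _ hO
        rw [hk, pow_mul, (hsd _ hO).2.2, one_pow]
  have hFc : Nat.card F = r ^ 2 := by rw [Nat.card_eq_fintype_card, hF]
  obtain ⟨f, hf, -⟩ := FormTorus.exists_of_pow_q1 hFc (by omega) (algebraMap F E)
    (show (e ^ p ^ Nat.clog p m) ^ (r + 1) = 1 by rw [← pow_mul, mul_comm, pow_mul, he, one_pow])
  refine ⟨L, D, Nat.clog p m, f, hL, hOs.card_pos.trans_le hkD, by omega, fun hc => ?_, hSS, ?_⟩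
  · have := Nat.pow_lt_of_lt_clog (b := p) (x := m) (y := Nat.clog p m - 1) (by omega)
    omega
  · exact pow_eq_smul p A hL e f (fun x hx => hLroot x (Multiset.mem_toFinset.2 hx))
      (fun x hx => le_trans (hmax x (Multiset.mem_toFinset.2 hx)) (Nat.le_pow_clog hp.out.one_lt m))
      hf.symm

end Cfsg.Agent.PGUOrder
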